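/-
Definitions for the common action of G2(2) and SU3(3) on 63 points.
-/
import Cfsg.Prelude.Def_ChevG2
import Cfsg.Agent.Compute.Chain
import Cfsg.Agent.U33.Field
import Cfsg.Agent.G2Two.Data

set_option autoImplicit false

namespace Cfsg.Agent.G2Two

open Cfsg.Lie Cfsg.Agent

/-- The field with two elements. -/
abbrev E : Type := ZMod 2

/-- Codes for permutations of 63 points: six bits per point. -/
noncomputable def rep63 : Compute.Rep (Equiv.Perm (Fin 63)) (Fin 63) :=
  Compute.permRep 6 63 (Equiv.refl (Fin 63)) (by norm_num) (by norm_num)

/-- The image of a point under a code. -/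
def img (c : ℕ) (i : Fin 63) : Fin 63 := ⟨Compute.getField 6 c i % 63, Nat.mod_lt _ (by norm_num)⟩

/-- Position of a coordinate. -/
def coordIdx : chevG2.Idx → ℕ
  | .inl j => j.val
  | .inr s => 2 + s.val

/-- An orbit vector. -/
def vec (i : Fin 63) : chevG2.Idx → E := fun a => if (orbVec.getD i 0).testBit (coordIdx a) then 1 else 0

/-- A packed vector over the field with nine elements. -/
def pt (i : Fin 63) : Fin 3 → U33.F9 := fun k => U33.entry (unitPt.getD i 0) k.val

/-- The first coordinate of a point which is not zero. -/
def piv (i : Fin 63) : Fin 3 := if pt i 0 ≠ 0 then 0 else if pt i 1 ≠ 0 then 1 else 2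

/-- The permutation code of a root element. -/
noncomputable def rperm (r : ℕ) : ℕ := rootPerm.getD r rep63.one

/-- The inverse of the permutation code of a root element. -/
noncomputable def rpermInv (r : ℕ) : ℕ := rootPermInv.getD r rep63.one

/-- The code of a commutator of root elements. -/
noncomputable def commCode (q : ℕ × ℕ) : ℕ :=
  rep63.mul (rep63.mul (rperm q.1) (rperm q.2)) (rep63.mul (rpermInv q.1) (rpermInv q.2))

/-- The code of a word in the commutators. -/
noncomputable def wordCode (w : List ℕ) : ℕ :=
  w.foldr (fun i r => rep63.mul (commCode (commPairs.getD i (0, 0))) r) rep63.one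

end Cfsg.Agent.G2Two
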