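/-
Kernel checks for the derived group on 63 points.
-/
import Cfsg.Agent.G2Two.Defs

set_option autoImplicit false

namespace Cfsg.Agent.G2Two

open Cfsg.Agent

theorem der_check : rep63.checkChain derChain = true ∧ Compute.chainSize derChain = 6048 := by
  decide +kernel

theorem root_ok : (List.range 12).all (fun r => rep63.okb (rperm r) && rep63.okb (rpermInv r) &&
    Nat.beq (rep63.mul (rperm r) (rpermInv r)) rep63.one) = true := by decide +kernel

theorem comm_in : (List.range 12).all (fun i => (List.range 12).all (fun j =>
    Nat.beq (rep63.sift derChain (commCode (i, j))) rep63.one)) = true := by decide +kernel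

theorem conj_in : (List.range 12).all (fun r => (Compute.topGens derChain).all (fun t =>
    Nat.beq (rep63.sift derChain (rep63.mul (rep63.mul (rperm r) t) (rpermInv r))) rep63.one &&
    Nat.beq (rep63.sift derChain (rep63.mul (rep63.mul (rpermInv r) t) (rperm r))) rep63.one)) =
      true := by decide +kernel

theorem word_check : Nat.beq genWord.length (Compute.topGens derChain).length = true ∧
    (List.range (Compute.topGens derChain).length).all (fun k =>
      Nat.beq (wordCode (genWord.getD k [])) ((Compute.topGens derChain).getD k 0)) = true ∧
    genWord.all (fun w => w.all (fun i => Nat.blt i commPairs.length)) = true ∧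
    commPairs.all (fun q => Nat.blt q.1 12 && Nat.blt q.2 12) = true := by decide +kernel

end Cfsg.Agent.G2Two
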