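/-
Kernel checks for the root elements of G2(2).
-/
import Cfsg.Agent.G2Two.Defs

set_option autoImplicit false
set_option synthInstance.maxSize 2000

namespace Cfsg.Agent.G2Two

open Cfsg.Lie Cfsg.Agent

theorem xMat_zero : ∀ r : Fin chevG2.nroots, chevG2.xMat E r 0 = 1 := by decide +kernel

theorem vec_xMat : ∀ (r : Fin chevG2.nroots) (i : Fin 63) (a : chevG2.Idx),
    Matrix.mulVec (chevG2.xMat E r 1) (vec i) a = vec (img (rootPerm.getD r.val 0) i) a := by
  decide +kernel

theorem vec_inj : ∀ i j : Fin 63, orbVec.getD i 0 = orbVec.getD j 0 → i = j := by decide +kernel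

theorem vec_mask : ∀ i : Fin 63, orbVec.getD i 0 < 2 ^ 14 := by decide +kernel

theorem unit_comb : ∀ a b : chevG2.Idx,
    (∑ i : Fin 63, if (unitComb.getD (coordIdx a) 0).testBit i then vec i b else 0) =
      if a = b then 1 else 0 := by decide +kernel

end Cfsg.Agent.G2Two
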