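/-
Kernel checks for SU3(3) on the 63 nonisotropic points.
-/
import Cfsg.Agent.G2Two.Defs

set_option autoImplicit false
set_option synthInstance.maxSize 2000

namespace Cfsg.Agent.G2Two

open Cfsg.Agent
open scoped Matrix

theorem pt_form : ∀ i : Fin 63, U33.form (pt i) (pt i) ≠ 0 := by decide +kernel

theorem pt_piv : ∀ i : Fin 63, pt i (piv i) = 1 := by decide +kernel

theorem pt_inj : ∀ i j : Fin 63, (∀ k, pt i k = pt i (piv j) * pt j k) → i = j := by decide +kernel

theorem pt_cover : ∀ a b c : U33.F9, U33.form ![a, b, c] ![a, b, c] ≠ 0 →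
    ∃ i : Fin 63, ∀ k, ![a, b, c] k = ![a, b, c] (piv i) * pt i k := by decide +kernel

theorem gen_data : ∀ k : Fin (Compute.topGens derChain).length,
    (U33.mat (genMat.getD k.val 0)).det = 1 ∧
    (∀ i j : Fin 3, U33.form (fun a => U33.mat (genMat.getD k.val 0) a i)
      (fun a => U33.mat (genMat.getD k.val 0) a j) = if i = j then 1 else 0) := by decide +kernel

theorem gen_act : ∀ (k : Fin (Compute.topGens derChain).length) (i : Fin 63), ∃ c : U33.F9,
    ∀ a : Fin 3, (U33.mat (genMat.getD k.val 0) *ᵥ pt i) a =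
      c * pt (img ((Compute.topGens derChain).getD k.val 0) i) a := by decide +kernel

theorem cube_root : ∀ d : U33.F9, d * d * d = 1 → d = 1 := by decide +kernel

end Cfsg.Agent.G2Two
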