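/-
The action of G2(2) on an orbit of 63 root vectors and its derived group.
-/
import Cfsg.Agent.G2Two.CheckRoot
import Cfsg.Agent.G2Two.CheckChain
import Cfsg.Agent.Chev.WeylAll
import Cfsg.Agent.Chev.Functorial
import Mathlib.Algebra.Field.ZMod

set_option autoImplicit false

namespace Cfsg.Agent.G2Two

open Cfsg.Lie Cfsg.Agent Cfsg.Agent.Chev
open scoped MatrixGroups Matrix commutatorElement

theorem den_apply {c : ℕ} (hc : rep63.Ok c) (i : Fin 63) : rep63.den c i = img c i := by
  have h := rep63.act_spec c i.val hc i.2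
  have e : rep63.pt i.val = i := Fin.ext (Nat.mod_eq_of_lt i.2)
  rw [e, Equiv.Perm.smul_def] at h
  exact h

/-- The derived group of the permutation group. -/
noncomputable abbrev derGroup : Subgroup (Equiv.Perm (Fin 63)) := rep63.chainGroup derChain

/-- The permutation group generated by the root elements. -/
noncomputable def rootGroup : Subgroup (Equiv.Perm (Fin 63)) :=
  Subgroup.closure (Set.range fun r : Fin 12 => rep63.den (rperm r.val))

theorem root_spec (r : Fin 12) : rep63.Ok (rperm r.val) ∧ rep63.Ok (rpermInv r.val) ∧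
    rep63.den (rpermInv r.val) = (rep63.den (rperm r.val))⁻¹ := by
  have h := List.all_eq_true.mp root_ok r.val (List.mem_range.mpr r.2)
  simp only [Bool.and_eq_true, Nat.beq_eq] at h
  have h1 := rep63.okb_sound _ h.1.1
  have h2 := rep63.okb_sound _ h.1.2
  refine ⟨h1, h2, eq_inv_of_mul_eq_one_right ?_⟩
  rw [← rep63.den_mul _ _ h1 h2, h.2, rep63.den_one]

theorem den_mem_root (r : Fin 12) : rep63.den (rperm r.val) ∈ rootGroup :=
  Subgroup.subset_closure ⟨r, rfl⟩

theorem commCode_spec (i j : Fin 12) : rep63.Ok (commCode (i.val, j.val)) ∧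
    rep63.den (commCode (i.val, j.val)) = ⁅rep63.den (rperm i.val), rep63.den (rperm j.val)⁆ := by
  obtain ⟨hi, hi', ei⟩ := root_spec i
  obtain ⟨hj, hj', ej⟩ := root_spec j
  refine ⟨rep63.ok_mul _ _ (rep63.ok_mul _ _ hi hj) (rep63.ok_mul _ _ hi' hj'), ?_⟩
  rw [commCode, rep63.den_mul _ _ (rep63.ok_mul _ _ hi hj) (rep63.ok_mul _ _ hi' hj'),
    rep63.den_mul _ _ hi hj, rep63.den_mul _ _ hi' hj', ei, ej, commutatorElement_def]
  group

theorem gen_spec {t : ℕ} (ht : t ∈ Compute.topGens derChain) : rep63.Ok t := by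
  have hc := der_check.1
  cases h : derChain with
  | nil => rw [h] at ht; simp [Compute.topGens] at ht
  | cons L Ls =>
      rw [h, Compute.Rep.checkChain_cons, Bool.and_eq_true] at hc
      rw [h] at ht
      exact (rep63.levelOK_of_check hc.1).gens_ok t ht

theorem conj_gen_mem (r : Fin 12) {x : Equiv.Perm (Fin 63)} (hx : x ∈ derGroup) :
    rep63.den (rperm r.val) * x * (rep63.den (rperm r.val))⁻¹ ∈ derGroup ∧
      (rep63.den (rperm r.val))⁻¹ * x * rep63.den (rperm r.val) ∈ derGroup := by
  obtain ⟨hr, hr', er⟩ := root_spec r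
  suffices derGroup ≤ derGroup.comap (MulAut.conj (rep63.den (rperm r.val))).toMonoidHom ⊓
      derGroup.comap (MulAut.conj (rep63.den (rperm r.val))⁻¹).toMonoidHom by
    have h := Subgroup.mem_inf.mp (this hx)
    refine ⟨h.1, ?_⟩
    have h2 := h.2
    simp only [Subgroup.mem_comap, MulEquiv.coe_toMonoidHom, MulAut.conj_apply, inv_inv] at h2
    exact h2
  conv_lhs => rw [derGroup, Compute.Rep.chainGroup, Compute.Rep.span]
  rw [Subgroup.closure_le]
  rintro _ ⟨t, ht, rfl⟩
  have h := List.all_eq_true.mp (List.all_eq_true.mp conj_in r.val (List.mem_range.mpr r.2)) t ht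
  rw [Bool.and_eq_true, Nat.beq_eq, Nat.beq_eq] at h
  have ht' := gen_spec ht
  refine Subgroup.mem_inf.mpr ⟨?_, ?_⟩
  · have := Compute.Rep.mem_of_sift rep63 _ der_check.1
      (rep63.ok_mul _ _ (rep63.ok_mul _ _ hr ht') hr') h.1
    rw [rep63.den_mul _ _ (rep63.ok_mul _ _ hr ht') hr', rep63.den_mul _ _ hr ht', er] at this
    exact this
  · have := Compute.Rep.mem_of_sift rep63 _ der_check.1
      (rep63.ok_mul _ _ (rep63.ok_mul _ _ hr' ht') hr) h.2
    rw [rep63.den_mul _ _ (rep63.ok_mul _ _ hr' ht') hr, rep63.den_mul _ _ hr' ht', er] at this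
    simpa [MulAut.conj_apply] using this

theorem root_normalizes {g x : Equiv.Perm (Fin 63)} (hg : g ∈ rootGroup) (hx : x ∈ derGroup) :
    g * x * g⁻¹ ∈ derGroup ∧ g⁻¹ * x * g ∈ derGroup := by
  induction hg using Subgroup.closure_induction generalizing x with
  | mem y hy => obtain ⟨r, rfl⟩ := hy; exact conj_gen_mem r hx
  | one => simpa using hx
  | mul a b _ _ ha hb =>
      refine ⟨?_, ?_⟩
      · rw [show a * b * x * (a * b)⁻¹ = a * (b * x * b⁻¹) * a⁻¹ by group]
        exact (ha (hb hx).1).1
      · rw [show (a * b)⁻¹ * x * (a * b) = b⁻¹ * (a⁻¹ * x * a) * b by group]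
        exact (hb (ha hx).2).2
  | inv a _ ha => rw [inv_inv]; exact ⟨(ha hx).2, (ha hx).1⟩

theorem comm_root_eq : ⁅rootGroup, rootGroup⁆ = derGroup := by
  apply le_antisymm
  · rw [Subgroup.commutator_le]
    have key : ∀ (i : Fin 12) (b : Equiv.Perm (Fin 63)), b ∈ rootGroup →
        ⁅rep63.den (rperm i.val), b⁆ ∈ derGroup := by
      intro i b hb
      induction hb using Subgroup.closure_induction with
      | mem y hy =>
          obtain ⟨j, rfl⟩ := hy
          obtain ⟨hok, hden⟩ := commCode_spec i j
          show ⁅rep63.den (rperm i.val), rep63.den (rperm j.val)⁆ ∈ derGroup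
          rw [← hden]
          exact Compute.Rep.mem_of_sift rep63 _ der_check.1 hok (Nat.beq_eq.mp
            (List.all_eq_true.mp (List.all_eq_true.mp comm_in i.val (List.mem_range.mpr i.2)) j.val
              (List.mem_range.mpr j.2)))
      | one => rw [commutatorElement_one_right]; exact one_mem _
      | mul a b ha _ h1 h2 =>
          rw [show ⁅rep63.den (rperm i.val), a * b⁆ = ⁅rep63.den (rperm i.val), a⁆ *
            (a * ⁅rep63.den (rperm i.val), b⁆ * a⁻¹) by rw [commutatorElement_def, commutatorElement_def, commutatorElement_def]; group]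
          exact mul_mem h1 (root_normalizes ha h2).1
      | inv a ha h1 =>
          rw [show ⁅rep63.den (rperm i.val), a⁻¹⁆ = a⁻¹ * ⁅rep63.den (rperm i.val), a⁆⁻¹ * a by
            rw [commutatorElement_def, commutatorElement_def]; group]
          exact (root_normalizes ha (inv_mem h1)).2
    intro a ha b hb
    induction ha using Subgroup.closure_induction with
    | mem y hy => obtain ⟨i, rfl⟩ := hy; exact key i b hb
    | one => rw [commutatorElement_one_left]; exact one_mem _
    | mul a c ha _ h1 h2 =>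
        rw [show ⁅a * c, b⁆ = (a * ⁅c, b⁆ * a⁻¹) * ⁅a, b⁆ by
          rw [commutatorElement_def, commutatorElement_def, commutatorElement_def]; group]
        exact mul_mem (root_normalizes ha h2).1 h1
    | inv a ha h1 =>
        rw [show ⁅a⁻¹, b⁆ = a⁻¹ * ⁅a, b⁆⁻¹ * a by
          rw [commutatorElement_def, commutatorElement_def]; group]
        exact (root_normalizes ha (inv_mem h1)).2
  · conv_lhs => rw [derGroup, Compute.Rep.chainGroup, Compute.Rep.span]
    rw [Subgroup.closure_le]
    rintro _ ⟨t, ht, rfl⟩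
    obtain ⟨k, hk, rfl⟩ := List.getElem_of_mem ht
    obtain ⟨hlen, hword, hlt, hlt'⟩ := word_check
    have h := Nat.beq_eq.mp (List.all_eq_true.mp hword k (List.mem_range.mpr hk))
    rw [List.getD_eq_getElem (Compute.topGens derChain) 0 hk] at h
    have hw : ∀ w : List ℕ, (∀ i ∈ w, i < commPairs.length) →
        rep63.Ok (wordCode w) ∧ rep63.den (wordCode w) ∈ ⁅rootGroup, rootGroup⁆ := by
      intro w
      induction w with
      | nil => intro _; exact ⟨rep63.ok_one, by rw [show wordCode [] = rep63.one from rfl, rep63.den_one]; exact one_mem _⟩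
      | cons i r ih =>
          intro hw
          obtain ⟨hok, hmem⟩ := ih (fun x hx => hw x (by simp [hx]))
          have hi := hw i (by simp)
          have hq := List.all_eq_true.mp hlt' _ (List.getElem_mem hi)
          rw [Bool.and_eq_true, Nat.blt_eq, Nat.blt_eq] at hq
          obtain ⟨hc, hcd⟩ := commCode_spec ⟨_, hq.1⟩ ⟨_, hq.2⟩
          have e : wordCode (i :: r) = rep63.mul (commCode commPairs[i]) (wordCode r) := by
            rw [wordCode, List.foldr_cons, List.getD_eq_getElem _ _ hi]; rfl
          rw [e]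
          refine ⟨rep63.ok_mul _ _ hc hok, ?_⟩
          rw [rep63.den_mul _ _ hc hok, hcd]
          exact mul_mem (Subgroup.commutator_mem_commutator (den_mem_root _) (den_mem_root _)) hmem
    have hk' : k < genWord.length := (Nat.beq_eq.mp hlen).symm ▸ hk
    rw [SetLike.mem_coe, ← h]
    refine (hw _ fun i hi => ?_).2
    rw [List.getD_eq_getElem _ _ hk'] at hi
    exact Nat.blt_eq.mp (List.all_eq_true.mp (List.all_eq_true.mp hlt _ (List.getElem_mem hk')) i hi)

theorem vec_injective : Function.Injective vec := by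
  intro i j h
  refine vec_inj i j (Nat.eq_of_testBit_eq fun k => ?_)
  by_cases hk : k < 14
  · obtain ⟨a, rfl⟩ : ∃ a : chevG2.Idx, coordIdx a = k := by
      by_cases h2 : k < 2
      · exact ⟨.inl ⟨k, h2⟩, rfl⟩
      · exact ⟨.inr ⟨k - 2, show k - 2 < 12 by omega⟩, show 2 + (k - 2) = k by omega⟩
    have e := congrFun h a
    simp only [vec] at e
    revert e
    cases (orbVec.getD i 0).testBit (coordIdx a) <;> cases (orbVec.getD j 0).testBit (coordIdx a) <;>
      simp
  · rw [Nat.testBit_lt_two_pow (lt_of_lt_of_le (vec_mask i) (Nat.pow_le_pow_right (by norm_num) (not_lt.mp hk))),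
      Nat.testBit_lt_two_pow (lt_of_lt_of_le (vec_mask j) (Nat.pow_le_pow_right (by norm_num) (not_lt.mp hk)))]

/-- The matrices permuting the orbit vectors by elements of the root group. -/
def stab : Subgroup (GL chevG2.Idx E) where
  carrier := {g | ∃ σ ∈ rootGroup, ∀ i,
    (g : Matrix chevG2.Idx chevG2.Idx E) *ᵥ vec i = vec (σ i)}
  one_mem' := ⟨1, one_mem _, fun i => by simp⟩
  mul_mem' := by
    rintro g h ⟨σ, hσm, hσ⟩ ⟨τ, hτm, hτ⟩
    exact ⟨σ * τ, mul_mem hσm hτm, fun i => by
      rw [Units.val_mul, ← Matrix.mulVec_mulVec, hτ, hσ]; rfl⟩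
  inv_mem' := by
    rintro g ⟨σ, hσm, hσ⟩
    refine ⟨σ⁻¹, inv_mem hσm, fun i => ?_⟩
    have := hσ (σ⁻¹ i)
    rw [← Equiv.Perm.mul_apply, mul_inv_cancel, Equiv.Perm.one_apply] at this
    rw [← this, Matrix.mulVec_mulVec, ← Units.val_mul, inv_mul_cancel, Units.val_one,
      Matrix.one_mulVec]

theorem vec_root (r : Fin 12) (i : Fin 63) :
    chevG2.xMat E r 1 *ᵥ vec i = vec (rep63.den (rperm r.val) i) := by
  rw [den_apply (root_spec r).1]
  funext a
  rw [vec_xMat r i a]
  congr 2
  rw [rperm, List.getD_eq_getElem _ _ (show r.val < rootPerm.length from r.2),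
    List.getD_eq_getElem _ _ (show r.val < rootPerm.length from r.2)]

theorem group_le_stab : chevG2.group E ≤ stab := by
  refine (Subgroup.closure_le _).2 ?_
  rintro g ⟨r, t, hg⟩
  rcases (show ∀ s : E, s = 0 ∨ s = 1 by decide) t with rfl | rfl
  · have : g = 1 := Units.ext (hg.trans (xMat_zero r))
    rw [this]; exact stab.one_mem
  · exact ⟨_, den_mem_root r, fun i => by rw [hg]; exact vec_root r i⟩

theorem act_unique {g : GL chevG2.Idx E} {σ τ : Equiv.Perm (Fin 63)}
    (hσ : ∀ i, (g : Matrix chevG2.Idx chevG2.Idx E) *ᵥ vec i = vec (σ i))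
    (hτ : ∀ i, (g : Matrix chevG2.Idx chevG2.Idx E) *ᵥ vec i = vec (τ i)) : σ = τ :=
  Equiv.ext fun i => vec_injective ((hσ i).symm.trans (hτ i))

/-- The permutation action on the orbit vectors. -/
noncomputable def act : ↥(chevG2.group E) →* Equiv.Perm (Fin 63) where
  toFun g := (group_le_stab g.2).choose
  map_one' := act_unique (group_le_stab (one_mem _)).choose_spec.2 fun i => by simp
  map_mul' g h := act_unique (group_le_stab (g * h).2).choose_spec.2 fun i => by
    rw [Subgroup.coe_mul, Units.val_mul, ← Matrix.mulVec_mulVec, Equiv.Perm.mul_apply,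
      (group_le_stab h.2).choose_spec.2, (group_le_stab g.2).choose_spec.2]

theorem act_range : act.range = rootGroup := by
  apply le_antisymm
  · rintro _ ⟨g, rfl⟩
    exact (group_le_stab g.2).choose_spec.1
  · rw [rootGroup, Subgroup.closure_le]
    rintro _ ⟨r, rfl⟩
    refine ⟨⟨xG facts_chevG2.{0} (r : ℕ) (1 : E), xG_mem_group facts_chevG2.{0} (r : ℕ) (1 : E)⟩,
      act_unique (group_le_stab (xG_mem_group facts_chevG2.{0} (r : ℕ) (1 : E))).choose_spec.2
        fun i => ?_⟩
    rw [xG_val, ChevalleyDatum.x, dif_pos (show (r : ℕ) < chevG2.nroots from r.2)]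
    exact vec_root r i

theorem act_injective : Function.Injective act := by
  rw [injective_iff_map_eq_one]
  intro g hg
  have hfix : ∀ i, ((g : GL chevG2.Idx E) : Matrix chevG2.Idx chevG2.Idx E) *ᵥ vec i = vec i := by
    intro i
    have := (group_le_stab g.2).choose_spec.2 i
    rw [show (group_le_stab g.2).choose = 1 from hg] at this
    exact this
  apply Subtype.ext
  apply Units.ext
  ext a b
  have hb : (Pi.single b 1 : chevG2.Idx → E) =
      ∑ i : Fin 63, if (unitComb.getD (coordIdx b) 0).testBit i then vec i else 0 := by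
    funext c
    rw [Finset.sum_apply]
    have := unit_comb b c
    rw [show (Pi.single b 1 : chevG2.Idx → E) c = if b = c then 1 else 0 by
      simp [Pi.single_apply, eq_comm], ← this]
    exact Finset.sum_congr rfl fun i _ => by split <;> simp
  have h1 : ((g : GL chevG2.Idx E) : Matrix chevG2.Idx chevG2.Idx E) *ᵥ Pi.single b 1 =
      Pi.single b 1 := by
    rw [hb, Matrix.mulVec_sum]
    exact Finset.sum_congr rfl fun i _ => by split <;> simp [hfix]
  have h2 := congrFun h1 a
  rw [Matrix.mulVec_single_one] at h2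
  simpa [Pi.single_apply, Matrix.one_apply] using h2

/-- The derived group of G2(2) on 63 points. -/
theorem nonempty_commutator_equiv : Nonempty (↥(commutator ↥(chevG2.group E)) ≃* ↥derGroup) := by
  refine ⟨((commutator ↥(chevG2.group E)).equivMapOfInjective act act_injective).trans
    (MulEquiv.subgroupCongr ?_)⟩
  rw [commutator_def, Subgroup.map_commutator, ← MonoidHom.range_eq_map, act_range, comm_root_eq]

end Cfsg.Agent.G2Two
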