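/-
SU3(3) on the 63 nonisotropic points.
-/
import Cfsg.Agent.G2Two.CheckUnitary
import Cfsg.Agent.G2Two.CheckChain
import Cfsg.Agent.Classical.HermGroup

set_option autoImplicit false

namespace Cfsg.Agent.G2Two

open Cfsg.Agent Cfsg.Agent.Classical Cfsg.Agent.Classical.Herm Cfsg.Agent.U33
open scoped Matrix

/-- The group SU3(3). -/
abbrev SU33 : Type := ↥(Cfsg.SU 3 F9 3)

theorem form_eq (u v : Fin 3 → F9) : form u v = hermB 3 F9.frob u v := by
  rw [hermB_apply, Fin.sum_univ_three]; rfl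

theorem form_mulVec (g : SU33) (u v : Fin 3 → F9) :
    form (g.1.1 *ᵥ u) (g.1.1 *ᵥ v) = form u v := by
  rw [form_eq, form_eq]
  exact (mem_SU_iff F9.frob_pow g.1).1 g.2 u v

theorem vec3 (v : Fin 3 → F9) : ![v 0, v 1, v 2] = v := by funext k; fin_cases k <;> rfl

theorem exists_pt {v : Fin 3 → F9} (hv : form v v ≠ 0) : ∃ i, v = v (piv i) • pt i := by
  have h := pt_cover (v 0) (v 1) (v 2)
  rw [vec3] at h
  obtain ⟨i, hi⟩ := h hv
  exact ⟨i, funext fun k => by rw [Pi.smul_apply, smul_eq_mul]; exact hi k⟩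

theorem mulVec_inj (g : SU33) {u v : Fin 3 → F9} (h : g.1.1 *ᵥ u = g.1.1 *ᵥ v) : u = v := by
  have h' := congrArg (fun w => ((g⁻¹ : SU33).1.1) *ᵥ w) h
  have e : ((g⁻¹ : SU33).1.1) * g.1.1 = 1 := by
    rw [← Matrix.SpecialLinearGroup.coe_mul, ← Subgroup.coe_mul, inv_mul_cancel]; rfl
  simpa only [Matrix.mulVec_mulVec, e, Matrix.one_mulVec] using h'

theorem pt_eq_of_smul {i j : Fin 63} {c : F9} (h : pt i = c • pt j) : i = j := by
  refine pt_inj i j fun k => ?_
  have e : pt i (piv j) = c := by rw [h, Pi.smul_apply, pt_piv, smul_eq_mul, mul_one]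
  rw [e, h, Pi.smul_apply, smul_eq_mul]

theorem pt_ne_zero (i : Fin 63) : pt i ≠ 0 := fun h => pt_form i (by rw [h]; rfl)

theorem exists_image (g : SU33) (i : Fin 63) :
    ∃ j, ∃ c : F9, g.1.1 *ᵥ pt i = c • pt j :=
  have ⟨j, hj⟩ := exists_pt (v := g.1.1 *ᵥ pt i) (by rw [form_mulVec]; exact pt_form i)
  ⟨j, _, hj⟩

theorem image_ne_zero (g : SU33) (i : Fin 63) {c : F9} {j : Fin 63}
    (h : g.1.1 *ᵥ pt i = c • pt j) : c ≠ 0 := fun hc => by
  rw [hc, zero_smul, ← Matrix.mulVec_zero g.1.1] at h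
  exact pt_ne_zero i (mulVec_inj g h)

theorem exists_perm (g : SU33) : ∃ σ : Equiv.Perm (Fin 63), ∀ i, ∃ c : F9,
    g.1.1 *ᵥ pt i = c • pt (σ i) := by
  choose f hf using exists_image g
  have hinj : Function.Injective f := fun i j e => by
    obtain ⟨c, hc⟩ := hf i
    obtain ⟨d, hd⟩ := hf j
    rw [← e] at hd
    have hc0 := image_ne_zero g i hc
    refine (pt_eq_of_smul (c := d / c) ?_).symm
    apply mulVec_inj g
    rw [Matrix.mulVec_smul, hc, hd, smul_smul, div_mul_cancel₀ d hc0]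
  exact ⟨Equiv.ofBijective f (Finite.injective_iff_bijective.mp hinj), hf⟩

theorem perm_unique {g : SU33} {σ τ : Equiv.Perm (Fin 63)}
    (hσ : ∀ i, ∃ c : F9, g.1.1 *ᵥ pt i = c • pt (σ i))
    (hτ : ∀ i, ∃ c : F9, g.1.1 *ᵥ pt i = c • pt (τ i)) : σ = τ := by
  refine Equiv.ext fun i => ?_
  obtain ⟨c, hc⟩ := hσ i
  obtain ⟨d, hd⟩ := hτ i
  have hc0 := image_ne_zero g i hc
  refine pt_eq_of_smul (c := d / c) ?_
  rw [hc] at hd
  have := congrArg (fun w : Fin 3 → F9 => c⁻¹ • w) hd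
  simp only [smul_smul, inv_mul_cancel₀ hc0, one_smul] at this
  rw [this, div_eq_inv_mul]

/-- The action on the nonisotropic points. -/
noncomputable def suAct : SU33 →* Equiv.Perm (Fin 63) :=
  MonoidHom.mk' (fun g => (exists_perm g).choose) fun g h => by
    refine perm_unique (exists_perm (g * h)).choose_spec fun i => ?_
    obtain ⟨c, hc⟩ := (exists_perm h).choose_spec i
    obtain ⟨d, hd⟩ := (exists_perm g).choose_spec ((exists_perm h).choose i)
    refine ⟨c * d, ?_⟩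
    rw [Subgroup.coe_mul, Matrix.SpecialLinearGroup.coe_mul, ← Matrix.mulVec_mulVec, hc,
      Matrix.mulVec_smul, hd, smul_smul]
    rfl

theorem suAct_injective : Function.Injective suAct := by
  rw [injective_iff_map_eq_one]
  intro g hg
  have heig : ∀ v : Fin 3 → F9, form v v ≠ 0 → ∃ d : F9, g.1.1 *ᵥ v = d • v := by
    intro v hv
    obtain ⟨i, hi⟩ := exists_pt hv
    obtain ⟨c, hc⟩ := (exists_perm g).choose_spec i
    rw [show (exists_perm g).choose = 1 from hg, Equiv.Perm.one_apply] at hc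
    refine ⟨c, ?_⟩
    rw [hi, Matrix.mulVec_smul, hc, smul_comm]
  obtain ⟨d0, h0⟩ := heig ![1, 0, 0] (by decide +kernel)
  obtain ⟨d1, h1⟩ := heig ![0, 1, 0] (by decide +kernel)
  obtain ⟨d2, h2⟩ := heig ![0, 0, 1] (by decide +kernel)
  obtain ⟨d3, h3⟩ := heig ![1, 1, 0] (by decide +kernel)
  obtain ⟨d4, h4⟩ := heig ![1, 0, 1] (by decide +kernel)
  have a0 := congrFun h0; have a1 := congrFun h1; have a2 := congrFun h2
  have a3 := congrFun h3; have a4 := congrFun h4
  simp [Fin.forall_fin_succ, Matrix.mulVec, dotProduct, Fin.sum_univ_three] at a0 a1 a2 a3 a4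
  obtain ⟨g00, g10, g20⟩ := a0
  obtain ⟨g01, g11, g21⟩ := a1
  obtain ⟨g02, g12, g22⟩ := a2
  obtain ⟨f0, f1, -⟩ := a3
  obtain ⟨k0, -, k2⟩ := a4
  rw [g00, g01, add_zero] at f0
  rw [g10, g11, zero_add] at f1
  rw [g00, g02, add_zero] at k0
  rw [g20, g22, zero_add] at k2
  have e1 : d1 = d0 := f1.trans f0.symm
  have e2 : d2 = d0 := k2.trans k0.symm
  have hd : d0 = 1 := by
    refine cube_root d0 ?_
    have h := g.1.2
    rw [Matrix.det_fin_three, g00, g01, g02, g10, g11, g12, g20, g21, g22, e1, e2] at h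
    simpa using h
  apply U33.ext'
  rw [Subgroup.coe_one, Matrix.SpecialLinearGroup.coe_one]
  ext i j
  fin_cases i <;> fin_cases j <;>
    simp [g00, g01, g02, g10, g11, g12, g20, g21, g22, e1, e2, hd]

theorem den_apply' {c : ℕ} (hc : rep63.Ok c) (i : Fin 63) : rep63.den c i = img c i := by
  have h := rep63.act_spec c i.val hc i.2
  have e : rep63.pt i.val = i := Fin.ext (Nat.mod_eq_of_lt i.2)
  rw [e, Equiv.Perm.smul_def] at h
  exact h

theorem der_le_range : rep63.chainGroup derChain ≤ suAct.range := by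
  have hc := der_check.1
  have hok : ∀ t ∈ Compute.topGens derChain, rep63.Ok t := by
    cases h : derChain with
    | nil => intro t ht; simp [Compute.topGens] at ht
    | cons L Ls =>
        intro t ht
        rw [h, Compute.Rep.checkChain_cons, Bool.and_eq_true] at hc
        exact (rep63.levelOK_of_check hc.1).gens_ok t ht
  rw [Compute.Rep.chainGroup, Compute.Rep.span, Subgroup.closure_le]
  rintro _ ⟨t, ht, rfl⟩
  obtain ⟨k, hk, rfl⟩ := List.getElem_of_mem ht
  obtain ⟨hd, hf⟩ := gen_data ⟨k, hk⟩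
  refine ⟨U33.mk _ hd hf, perm_unique (exists_perm _).choose_spec fun i => ?_⟩
  obtain ⟨c, hc'⟩ := gen_act ⟨k, hk⟩ i
  refine ⟨c, funext fun a => ?_⟩
  rw [den_apply' (hok _ (List.getElem_mem hk)), ← List.getD_eq_getElem _ 0 hk]
  exact hc' a

theorem card_center_SU33 : Nat.card (Subgroup.center SU33) = 1 := by
  obtain ⟨σ, hσq, hσ, hq, -⟩ := exists_powHom (F := F9) (q := 3) (by rw [F9.card_eq]; norm_num)
  exact (card_center_SU hσ hσq hq (by norm_num)).trans (by norm_num)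

end Cfsg.Agent.G2Two
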